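import Cfsg.Agent.H727.GW.Isom
import Cfsg.Agent.Prune
set_option linter.all false
prune_inst 0x7f00000000000000000000000000000000000000000000000000000000000000000000000000000000000000000000000000000000000000000000000000000000000000000000000000000000000000003fffffffffffffffffffffffffffbeffbdffffffff
open scoped Cfsg.Agent.FastGrp

/-!
# Isometries of order prime to the characteristic: fixed spaces and centralizers
-/

set_option autoImplicit false
set_option linter.unusedSectionVars false

namespace Cfsg.Agent.H727.GW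

open Module
open Cfsg.Agent.LieClassical.SympCount

universe u v

variable {F : Type u} [Field F] {V : Type v} [AddCommGroup V] [Module F V]

/-- the fixed space -/
def fixS (x : V ≃ₗ[F] V) : Submodule F V where
  carrier := {v | x v = v}
  add_mem' {a b} ha hb := by
    show x (a + b) = a + b
    rw [map_add, ha, hb]
  zero_mem' := map_zero x
  smul_mem' c v hv := by
    show x (c • v) = c • v
    rw [map_smul, hv]

theorem mem_fixS {x : V ≃ₗ[F] V} {v : V} : v ∈ fixS x ↔ x v = v := Iff.rfl

theorem pow_fix {x : V ≃ₗ[F] V} {v : V} (hv : x v = v) (k : ℕ) : (x ^ k) v = v := by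
  induction k with
  | zero => rfl
  | succ k ih => rw [pow_succ, LinearEquiv.mul_apply, hv, ih]

theorem fix_sum {x : V ≃ₗ[F] V} {p : ℕ} (hxp : x ^ p = 1) (v : V) :
    (∑ k ∈ Finset.range p, (x ^ k) v) ∈ fixS x := by
  rw [mem_fixS, map_sum]
  have h1 : ∀ k, x ((x ^ k) v) = (x ^ (k + 1)) v := fun k => by rw [pow_succ', LinearEquiv.mul_apply]
  simp only [h1]
  have h2 := Finset.sum_range_succ (fun k => (x ^ k) v) p
  rw [Finset.sum_range_succ' (fun k => (x ^ k) v) p, hxp, pow_zero] at h2
  exact add_right_cancel h2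

variable {B : LinearMap.BilinForm F V}

/-- The fixed space is nondegenerate. -/
theorem nondeg_fix (hnd : ∀ x, (∀ y, B x y = 0) → x = 0) {x : V ≃ₗ[F] V} (hx : x ∈ isomGroup B)
    {p : ℕ} (hp : (p : F) ≠ 0) (hxp : x ^ p = 1) (c : V) (hc : c ∈ fixS x)
    (h : ∀ c' ∈ fixS x, B c c' = 0) : c = 0 := by
  apply hnd
  intro v
  have h1 := h _ (fix_sum hxp v)
  rw [map_sum] at h1
  have h2 : ∀ k, B c ((x ^ k) v) = B c v := by
    intro k
    have h3 := (mem_isomGroup.1 (pow_mem hx k)) c v
    rwa [pow_fix hc k] at h3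
  simp only [h2, Finset.sum_const, Finset.card_range, nsmul_eq_mul] at h1
  exact (mul_eq_zero.1 h1).resolve_left hp

theorem isRefl_of_alt (hB : ∀ x, B x x = 0) : B.IsRefl := fun a b h => by
  rw [alt_swap B hB, h, neg_zero]

section decomp

variable [FiniteDimensional F V] (hB : ∀ x, B x x = 0) (C : Submodule F V)
  (hC : ∀ c ∈ C, (∀ c' ∈ C, B c c' = 0) → c = 0)

include hB hC

theorem isCompl_orth : IsCompl C (B.orthogonal C) := by
  rw [LinearMap.BilinForm.isCompl_orthogonal_iff_disjoint (isRefl_of_alt hB), Submodule.disjoint_def]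
  intro c hc hc'
  refine hC c hc fun c' hcc => ?_
  rw [alt_swap B hB, (LinearMap.BilinForm.mem_orthogonal_iff.1 hc') c' hcc, neg_zero]

theorem nondeg_orth (hnd : ∀ x, (∀ y, B x y = 0) → x = 0) (d : V) (hd : d ∈ B.orthogonal C)
    (h : ∀ d' ∈ B.orthogonal C, B d d' = 0) : d = 0 := by
  apply hnd
  intro v
  obtain ⟨c, hc, d', hd', rfl⟩ := Submodule.mem_sup.1
    ((isCompl_orth hB C hC).sup_eq_top ▸ Submodule.mem_top : v ∈ C ⊔ B.orthogonal C)
  rw [map_add, h d' hd', add_zero, alt_swap B hB, (LinearMap.BilinForm.mem_orthogonal_iff.1 hd) c hc,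
    neg_zero]

theorem finrank_orth : finrank F C + finrank F (B.orthogonal C) = finrank F V :=
  Submodule.finrank_add_eq_of_isCompl (isCompl_orth hB C hC)

/-- extension by the identity on the orthogonal space -/
noncomputable def glue (f : C ≃ₗ[F] C) : V ≃ₗ[F] V :=
  (Submodule.prodEquivOfIsCompl C (B.orthogonal C) (isCompl_orth hB C hC)).symm.trans
    ((f.prodCongr (LinearEquiv.refl F _)).trans
      (Submodule.prodEquivOfIsCompl C (B.orthogonal C) (isCompl_orth hB C hC)))

theorem glue_apply (f : C ≃ₗ[F] C) (c : C) (d : V) (hd : d ∈ B.orthogonal C) :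
    glue hB C hC f (c + d) = f c + d := by
  have h1 : (c : V) + d = (Submodule.prodEquivOfIsCompl C (B.orthogonal C) (isCompl_orth hB C hC))
      (c, ⟨d, hd⟩) := rfl
  rw [h1, glue, LinearEquiv.trans_apply, LinearEquiv.symm_apply_apply]
  rfl

theorem exists_decomp (v : V) : ∃ c : C, ∃ d ∈ B.orthogonal C, v = c + d := by
  obtain ⟨c, hc, d', hd', rfl⟩ := Submodule.mem_sup.1
    ((isCompl_orth hB C hC).sup_eq_top ▸ Submodule.mem_top : v ∈ C ⊔ B.orthogonal C)
  exact ⟨⟨c, hc⟩, d', hd', rfl⟩

theorem glue_mem {f : C ≃ₗ[F] C} (hf : f ∈ isomGroup (B.restrict C)) :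
    glue hB C hC f ∈ isomGroup B := by
  intro u v
  obtain ⟨c, d, hd, rfl⟩ := exists_decomp hB C hC u
  obtain ⟨c', d', hd', rfl⟩ := exists_decomp hB C hC v
  rw [glue_apply hB C hC f c d hd, glue_apply hB C hC f c' d' hd']
  have h1 : ∀ (a : C) (b : V), b ∈ B.orthogonal C → B (a : V) b = 0 := fun a b hb =>
    (LinearMap.BilinForm.mem_orthogonal_iff.1 hb) a a.2
  have h2 : ∀ (a : C) (b : V), b ∈ B.orthogonal C → B b (a : V) = 0 := fun a b hb => by
    rw [alt_swap B hB, h1 a b hb, neg_zero]
  have h3 : B (f c : V) (f c' : V) = B (c : V) (c' : V) := hf c c'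
  simp only [map_add, LinearMap.add_apply]
  rw [h1 _ _ hd', h1 _ _ hd', h2 _ _ hd, h2 _ _ hd, h3]

end decomp

section cent

variable [FiniteDimensional F V] (hB : ∀ x, B x x = 0) (hnd : ∀ x, (∀ y, B x y = 0) → x = 0)
  {x : V ≃ₗ[F] V} (hx : x ∈ isomGroup B) {p : ℕ} (hp : (p : F) ≠ 0) (hxp : x ^ p = 1)

include hx in
theorem orth_map {d : V} (hd : d ∈ B.orthogonal (fixS x)) : x d ∈ B.orthogonal (fixS x) := by
  rw [LinearMap.BilinForm.mem_orthogonal_iff] at hd ⊢
  intro c hc
  have h1 := hx c d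
  rw [mem_fixS.1 hc] at h1
  rw [h1]
  exact hd c hc

include hB hnd hx hp hxp in
theorem glue_comm (f : fixS x ≃ₗ[F] fixS x) :
    glue hB (fixS x) (nondeg_fix hnd hx hp hxp) f * x = x * glue hB (fixS x) (nondeg_fix hnd hx hp hxp) f := by
  apply LinearEquiv.ext
  intro v
  obtain ⟨c, d, hd, rfl⟩ := exists_decomp hB (fixS x) (nondeg_fix hnd hx hp hxp) v
  rw [LinearEquiv.mul_apply, LinearEquiv.mul_apply, glue_apply _ _ _ _ _ _ hd, map_add x (c : V),
    map_add x (f c : V), mem_fixS.1 c.2, mem_fixS.1 (f c).2, glue_apply _ _ _ _ _ _ (orth_map hx hd)]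

include hB hnd hp in
/-- **A lower bound for the centralizer.** -/
theorem card_mul_le_centralizer [Finite V] (hord : orderOf x = p) :
    p * Nat.card (isomGroup (B.restrict (fixS x))) ≤
      Nat.card (Subgroup.centralizer ({(⟨x, hx⟩ : isomGroup B)} : Set (isomGroup B))) := by
  have hxp : x ^ p = 1 := hord ▸ pow_orderOf_eq_one x
  have hC := nondeg_fix hnd hx hp hxp
  have : Finite (V ≃ₗ[F] V) := Finite.of_injective (fun e : V ≃ₗ[F] V => (e : V → V)) DFunLike.coe_injective
  have h1 : Nat.card (Fin p × isomGroup (B.restrict (fixS x))) =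
      p * Nat.card (isomGroup (B.restrict (fixS x))) := by
    rw [Nat.card_prod, Nat.card_eq_fintype_card, Fintype.card_fin]
  rw [← h1]
  let Φ : Fin p × isomGroup (B.restrict (fixS x)) →
      Subgroup.centralizer ({(⟨x, hx⟩ : isomGroup B)} : Set (isomGroup B)) := fun t =>
    ⟨⟨glue hB (fixS x) hC t.2.1 * x ^ (t.1 : ℕ),
      mul_mem (glue_mem hB (fixS x) hC t.2.2) (pow_mem hx _)⟩, by
        rw [Subgroup.mem_centralizer_singleton_iff]
        apply Subtype.ext
        show glue hB (fixS x) hC t.2.1 * x ^ (t.1 : ℕ) * x = x * (glue hB (fixS x) hC t.2.1 * x ^ (t.1 : ℕ))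
        have h2 := glue_comm hB hnd hx hp hxp t.2.1
        calc glue hB (fixS x) hC t.2.1 * x ^ (t.1 : ℕ) * x
            = glue hB (fixS x) hC t.2.1 * (x ^ (t.1 : ℕ) * x) := mul_assoc _ _ _
          _ = glue hB (fixS x) hC t.2.1 * (x * x ^ (t.1 : ℕ)) := by rw [← pow_succ, ← pow_succ']
          _ = glue hB (fixS x) hC t.2.1 * x * x ^ (t.1 : ℕ) := (mul_assoc _ _ _).symm
          _ = _ := by rw [h2, mul_assoc]⟩
  refine Nat.card_le_card_of_injective Φ ?_
  rintro ⟨i, f⟩ ⟨j, g⟩ h
  have h2 : glue hB (fixS x) hC f.1 * x ^ (i : ℕ) = glue hB (fixS x) hC g.1 * x ^ (j : ℕ) :=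
    congrArg (fun t : Subgroup.centralizer ({(⟨x, hx⟩ : isomGroup B)} : Set (isomGroup B)) =>
      ((t : isomGroup B) : V ≃ₗ[F] V)) h
  have h3 : f = g := by
    apply Subtype.ext
    apply LinearEquiv.ext
    intro c
    have h4 := congrArg (fun e : V ≃ₗ[F] V => e (c : V)) h2
    simp only [LinearEquiv.mul_apply] at h4
    rw [pow_fix c.2, pow_fix c.2] at h4
    have h5 := glue_apply hB (fixS x) hC f.1 c 0 (zero_mem _)
    have h6 := glue_apply hB (fixS x) hC g.1 c 0 (zero_mem _)
    rw [add_zero, add_zero] at h5 h6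
    rw [h5, h6] at h4
    exact Subtype.ext h4
  subst h3
  have h4 : x ^ (i : ℕ) = x ^ (j : ℕ) := mul_left_cancel h2
  have h5 : (i : ℕ) = j := pow_injOn_Iio_orderOf (by rw [hord]; exact i.2) (by rw [hord]; exact j.2) h4
  rw [Fin.ext h5]

/-- the restriction to the orthogonal space of the fixed space -/
noncomputable def resD : (B.orthogonal (fixS x)) ≃ₗ[F] (B.orthogonal (fixS x)) :=
  LinearEquiv.ofInjectiveEndo ((x : V →ₗ[F] V).restrict (fun _ hd => orth_map hx hd)) (by
    intro a b h
    apply Subtype.ext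
    apply x.injective
    exact congrArg Subtype.val h)

theorem resD_apply (d : B.orthogonal (fixS x)) : (resD hx d : V) = x d := rfl

theorem resD_mem : resD hx ∈ isomGroup (B.restrict (B.orthogonal (fixS x))) := fun u v => hx u v

theorem resD_pow (k : ℕ) (d : B.orthogonal (fixS x)) : (((resD hx) ^ k) d : V) = (x ^ k) d := by
  induction k generalizing d with
  | zero => rfl
  | succ k ih => rw [pow_succ, pow_succ, LinearEquiv.mul_apply, LinearEquiv.mul_apply, ih, resD_apply]

include hB hnd hx hp in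
/-- The order of the isometry divides the order of the isometry group of the moved space. -/
theorem dvd_card_resD [Finite V] (hpp : p.Prime) (hord : orderOf x = p) :
    p ∣ Nat.card (isomGroup (B.restrict (B.orthogonal (fixS x)))) := by
  have hxp : x ^ p = 1 := hord ▸ pow_orderOf_eq_one x
  have hC := nondeg_fix hnd hx hp hxp
  have := Fact.mk hpp
  have h1 : orderOf (⟨resD hx, resD_mem hx⟩ : isomGroup (B.restrict (B.orthogonal (fixS x)))) = p := by
    refine orderOf_eq_prime (Subtype.ext (LinearEquiv.ext fun d => Subtype.ext ?_)) ?_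
    · show (((resD hx) ^ p) d : V) = d
      rw [resD_pow, hxp]
      rfl
    · intro h
      have h2 : x = 1 := by
        apply LinearEquiv.ext
        intro v
        obtain ⟨c, d, hd, rfl⟩ := exists_decomp hB (fixS x) hC v
        have h3 := congrArg (fun e : isomGroup (B.restrict (B.orthogonal (fixS x))) =>
          ((e.1 ⟨d, hd⟩ : B.orthogonal (fixS x)) : V)) h
        have h4 : x d = d := h3
        rw [map_add, mem_fixS.1 c.2, h4]
        rfl
      rw [h2, orderOf_one] at hord
      exact hpp.one_lt.ne hord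
  rw [← h1]
  exact orderOf_dvd_natCard _

end cent

end Cfsg.Agent.H727.GW

private theorem dce_89793020f753 : _root_.True := by
  try have : _root_.True := by simp only [_root_.Cfsg.Agent.H727.GW.glue.eq_1]
  try have : _root_.True := by simp only [_root_.Cfsg.Agent.H727.GW.glue.congr_simp]
  exact _root_.True.intro
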